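import Cfsg.Agent.Mrg.Omega.TC.RSix.End
import Cfsg.Agent.Mrg.Omega.TC.R.Base

section


/-!
# THEOREM R (bb OMEGA #21425), part (6), in the literal interface of `TC/R/Def.lean`

`D : Fr T V P v`, `V i ≰ N_i` and `(1b)` (`R.OneB T V v i`) for both `i`: contradiction.
No swap, no offender, no `(1a)`.
-/

set_option autoImplicit false

namespace Cfsg.Agent.Omega.TC.RSix

open Subgroup Cfsg Cfsg.Agent.ZN
open Cfsg.Agent.Omega.OM.KTwo (CC QQ WU NU EU)
open scoped Pointwise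

universe u

variable {G : Type u} [Group G] {T : Subgroup G} {V P : Fin 2 → Subgroup G} {v : Fin 2 → G}

theorem oneB_of [Finite G] (h : ∀ i, R.OneB T V v i) : OneB T V v := fun i A hA hm hc =>
  h i A hA hm (hc.trans (centralizer_le (show (WU V v i : Set G) ⊆ (WU V v i ⊔ NU V v i : Subgroup G) from
    (le_sup_left : WU V v i ≤ WU V v i ⊔ NU V v i))))

/-- **#21425 (6)** -/
theorem six' [Finite G] (D : Fr T V P v) (hML : ML.Final.MLK.{u, u}) (hK : ∀ i, IsKGroup (CC v i))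
    (hV : ∀ i, ¬ V i ≤ NU V v i) (h1b : ∀ i, R.OneB T V v i) : False :=
  six D hML hK hV (oneB_of h1b)

end Cfsg.Agent.Omega.TC.RSix

end

section


/-!
# CARD #18791: THEOREM R (helper691 #21425), no swap, no LEMMA FIX, no levels, no THEOREM KL

* **`Fr.thmR`** : `V i ≰ N_i` for both `i` is impossible if `WOff T V i` for both `i`;
* `Fr.thmR_voff` : the same from (V!) (`VOff T`);
* `Fr.thmR_J` : the same if `J(O)` moves both `V i`, `O = O₂(C(Ω₁Z(T)))` (helper609 #23569 (3)).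
-/

set_option autoImplicit false

namespace Cfsg.Agent.Omega.TC

open Subgroup Cfsg Cfsg.Agent.ZN
open Cfsg.Agent.Omega.OM.KTwo (CC QQ WU NU EU)
open Cfsg.Agent.ZN.ChoiceBase (AA)

universe u

namespace Fr

variable {G : Type u} [Group G] [Finite G] {T : Subgroup G} {V P : Fin 2 → Subgroup G} {v : Fin 2 → G}

/-- **(1b)** of #21425 -/
theorem oneB (D : Fr T V P v) (hML : ML.Final.MLK.{u, u}) (hK : ∀ i, IsKGroup (CC v i)) {i : Fin 2}
    (hW : WOff T V i) (hV : ¬ V i ≤ NU V v i) : R.OneB T V v i :=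
  R.oneB D hML hK hV (R.locF' D hML hK hW hV)

/-- **THEOREM R** -/
theorem thmR (D : Fr T V P v) (hML : ML.Final.MLK.{u, u}) (hK : ∀ i, IsKGroup (CC v i)) (hW : ∀ i, WOff T V i)
    (hV : ∀ i, ¬ V i ≤ NU V v i) : False :=
  RSix.six' D hML hK hV fun i => D.oneB hML hK (hW i) (hV i)

/-- **THEOREM R** from (V!) -/
theorem thmR_voff (D : Fr T V P v) (hML : ML.Final.MLK.{u, u}) (hK : ∀ i, IsKGroup (CC v i)) (hB : VOff T)
    (hV : ∀ i, ¬ V i ≤ NU V v i) : False :=
  D.thmR hML hK (fun i => D.woff hB i) hV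

/-- **THEOREM R** from "`J(O)` moves both `V i`" -/
theorem thmR_J (D : Fr T V P v) (hML : ML.Final.MLK.{u, u}) (hK : ∀ i, IsKGroup (CC v i))
    (hJ : ∀ i, ∃ A ∈ AA (o2 (centralizer (zc T : Set G))), ¬ A ≤ centralizer (V i : Set G))
    (hV : ∀ i, ¬ V i ≤ NU V v i) : False :=
  D.thmR hML hK (fun i => by
    obtain ⟨A, hA, hm⟩ := hJ i
    exact D.woff_of_AA hA hm) hV

end Fr

end Cfsg.Agent.Omega.TC

end
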